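import Groth.Prelude.Def_LiftSq
import Groth.Prelude.Def_FibCat2

/-!
# Unique lifting is stable under composition and base change (categories over a base category)
-/

set_option autoImplicit false
set_option backward.isDefEq.respectTransparency false
set_option backward.isDefEq.respectTransparency.types false

universe v₇ u₇ v₆ u₆ v₅ u₅ v₄ u₄ v₃ u₃ v₂ u₂ v u

open CategoryTheory CategoryTheory.Limits LiftSq

namespace LiftSqLib

variable {C : Type u} [Category.{v} C]
  {𝒜 : BasedCategory.{v₂, u₂} C} {ℬ : BasedCategory.{v₃, u₃} C}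
  {j : 𝒜 ⥤ᵇ ℬ}

theorem app_congr {𝒳 : BasedCategory.{v₄, u₄} C} {F G : 𝒜 ⥤ᵇ 𝒳} {α β : F ⟶ G} (h : α = β)
    (x : 𝒜.obj) : α.toNatTrans.app x = β.toNatTrans.app x := by rw [h]

theorem nat_ext {𝒳 : BasedCategory.{v₄, u₄} C} {F G : 𝒜 ⥤ᵇ 𝒳} {α β : F ⟶ G}
    (h : ∀ x : 𝒜.obj, α.toNatTrans.app x = β.toNatTrans.app x) : α = β := by
  apply BasedNatTrans.homCategory.ext; ext x; exact h x

section comp

variable {𝒳 : BasedCategory.{v₄, u₄} C} {𝒴 : BasedCategory.{v₅, u₅} C}
  {𝒵 : BasedCategory.{v₆, u₆} C} {f : 𝒳 ⥤ᵇ 𝒴} {g : 𝒴 ⥤ᵇ 𝒵}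

/-- The outer square seen as a square for the second functor. -/
def sqSnd (sq : Sq j (BasedFunctor.comp f g)) : Sq j g where
  top := BasedFunctor.comp sq.top f
  bot := sq.bot
  iso := sq.iso

/-- A lift of the outer square gives a lift for the second functor. -/
def liftSnd {sq : Sq j (BasedFunctor.comp f g)} (d : sq.Lift) : (sqSnd sq).Lift where
  fn := BasedFunctor.comp d.fn f
  isoTop := {
    hom := BasedCategory.whiskerRight d.isoTop.hom f
    inv := BasedCategory.whiskerRight d.isoTop.inv f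
    hom_inv_id := by rw [← whiskerRight_comp', Iso.hom_inv_id, whiskerRight_id']; rfl
    inv_hom_id := by rw [← whiskerRight_comp', Iso.inv_hom_id, whiskerRight_id']; rfl }
  isoBot := d.isoBot
  w := nat_ext fun x => app_congr d.w x

theorem liftsUniquely_comp (hf : LiftsUniquely j f) (hg : LiftsUniquely j g) :
    LiftsUniquely j (BasedFunctor.comp f g) := by
  intro sq
  refine ⟨?_, ?_⟩
  · obtain ⟨c⟩ := (hg (sqSnd sq)).1
    obtain ⟨d⟩ := (hf ⟨sq.top, c.fn, c.isoTop⟩).1
    refine ⟨⟨d.fn, d.isoTop, c.isoBot ≪≫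
      { hom := BasedCategory.whiskerRight d.isoBot.hom g
        inv := BasedCategory.whiskerRight d.isoBot.inv g
        hom_inv_id := by rw [← whiskerRight_comp', Iso.hom_inv_id, whiskerRight_id']
        inv_hom_id := by rw [← whiskerRight_comp', Iso.inv_hom_id, whiskerRight_id']; rfl }, ?_⟩⟩
    refine nat_ext fun x => ?_
    have h1 := app_congr c.w x
    have h2 : d.isoBot.hom.toNatTrans.app (j.obj x) ≫ f.map (d.isoTop.hom.toNatTrans.app x) =
        c.isoTop.hom.toNatTrans.app x := app_congr d.w x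
    change (c.isoBot.hom.toNatTrans.app (j.obj x) ≫
      g.map (d.isoBot.hom.toNatTrans.app (j.obj x))) ≫
        g.map (f.map (d.isoTop.hom.toNatTrans.app x)) = sq.iso.hom.toNatTrans.app x
    rw [Category.assoc]
    erw [← g.map_comp]
    erw [h2]
    exact h1
  · intro d d'
    obtain ⟨uφ⟩ := (hg (sqSnd sq)).2 (liftSnd d) (liftSnd d')
    obtain ⟨uψ⟩ := (hg (sqSnd sq)).2 (liftSnd d') (liftSnd d)
    obtain ⟨u0⟩ := (hg (sqSnd sq)).2 (liftSnd d) (liftSnd d)
    obtain ⟨u1⟩ := (hg (sqSnd sq)).2 (liftSnd d') (liftSnd d')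
    let φ := uφ.default
    let ψ := uψ.default
    have e0 : φ.hom ≫ ψ.hom = 𝟙 _ :=
      congrArg Sq.Lift.Hom.hom ((u0.uniq (φ ≫ ψ)).trans (u0.uniq (𝟙 _)).symm)
    have e1 : ψ.hom ≫ φ.hom = 𝟙 _ :=
      congrArg Sq.Lift.Hom.hom ((u1.uniq (ψ ≫ φ)).trans (u1.uniq (𝟙 _)).symm)
    let sqf : Sq j f := ⟨sq.top, BasedFunctor.comp d.fn f, (liftSnd d).isoTop⟩
    let l : sqf.Lift := ⟨d.fn, d.isoTop, Iso.refl _, nat_ext fun x => by
      change 𝟙 _ ≫ f.map (d.isoTop.hom.toNatTrans.app x) = f.map (d.isoTop.hom.toNatTrans.app x)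
      exact Category.id_comp _⟩
    let l' : sqf.Lift := ⟨d'.fn, d'.isoTop, ⟨φ.hom, ψ.hom, e0, e1⟩, φ.w_top⟩
    obtain ⟨uθ⟩ := (hf sqf).2 l l'
    have hθ : BasedCategory.whiskerRight uθ.default.hom f = φ.hom := by
      have h := uθ.default.w_bot
      exact (Category.id_comp _).symm.trans h
    refine ⟨⟨⟨⟨uθ.default.hom, uθ.default.w_top, ?_⟩⟩, ?_⟩⟩
    · refine nat_ext fun x => ?_
      have h1 := app_congr φ.w_bot x
      have h2 : f.map (uθ.default.hom.toNatTrans.app x) = φ.hom.toNatTrans.app x := app_congr hθ x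
      change d.isoBot.hom.toNatTrans.app x ≫ g.map (f.map (uθ.default.hom.toNatTrans.app x)) =
        d'.isoBot.hom.toNatTrans.app x
      erw [h2]
      exact h1
    · intro θ
      let Φ : liftSnd d ⟶ liftSnd d' := ⟨BasedCategory.whiskerRight θ.hom f,
        nat_ext fun x => by
          change f.map (θ.hom.toNatTrans.app (j.obj x)) ≫ f.map (d'.isoTop.hom.toNatTrans.app x) =
            f.map (d.isoTop.hom.toNatTrans.app x)
          rw [← Functor.map_comp]
          exact congrArg f.map (app_congr θ.w_top x),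
        nat_ext fun x => app_congr θ.w_bot x⟩
      have hΦ : BasedCategory.whiskerRight θ.hom f = φ.hom :=
        congrArg Sq.Lift.Hom.hom (uφ.uniq Φ)
      let Θ : l ⟶ l' := ⟨θ.hom, θ.w_top, (Category.id_comp _).trans hΦ⟩
      have hh : θ.hom = uθ.default.hom := congrArg Sq.Lift.Hom.hom (uθ.uniq Θ)
      exact Sq.Lift.hom_ext hh

end comp

section baseChange

variable {𝒳 : BasedCategory.{v₄, u₄} C} {𝒴 : BasedCategory.{v₅, u₅} C}
  {𝒴' : BasedCategory.{v₆, u₆} C} {f : 𝒳 ⥤ᵇ 𝒴} {y : 𝒴' ⥤ᵇ 𝒴}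

/-- The square for `f` obtained from a square for the base change of `f`. -/
def sqBase (sq : Sq j (FibCat.fpFst y f)) : Sq j f where
  top := BasedFunctor.comp sq.top (FibCat.fpSnd y f)
  bot := BasedFunctor.comp sq.bot y
  iso :=
    { hom := BasedCategory.whiskerRight sq.iso.hom y ≫
        BasedCategory.whiskerLeft sq.top (FibCat.fpIso y f).hom
      inv := BasedCategory.whiskerLeft sq.top (FibCat.fpIso y f).inv ≫
        BasedCategory.whiskerRight sq.iso.inv y
      hom_inv_id := nat_ext fun x => by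
        change (y.map (sq.iso.hom.toNatTrans.app x) ≫ (sq.top.obj x).obj.iso.hom) ≫
          ((sq.top.obj x).obj.iso.inv ≫ y.map (sq.iso.inv.toNatTrans.app x)) = 𝟙 _
        rw [Category.assoc, Iso.hom_inv_id_assoc, ← Functor.map_comp]
        exact (congrArg y.map (app_congr sq.iso.hom_inv_id x)).trans (y.map_id _)
      inv_hom_id := nat_ext fun x => by
        change ((sq.top.obj x).obj.iso.inv ≫ y.map (sq.iso.inv.toNatTrans.app x)) ≫
          (y.map (sq.iso.hom.toNatTrans.app x) ≫ (sq.top.obj x).obj.iso.hom) = 𝟙 _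
        rw [Category.assoc, ← Functor.map_comp_assoc]
        have h : sq.iso.inv.toNatTrans.app x ≫ sq.iso.hom.toNatTrans.app x = 𝟙 _ :=
          app_congr sq.iso.inv_hom_id x
        erw [h, y.map_id, Category.id_comp]
        exact Iso.inv_hom_id _ }

/-- A lift for the base change gives a lift for `f`. -/
def liftBase {sq : Sq j (FibCat.fpFst y f)} (d : sq.Lift) : (sqBase sq).Lift where
  fn := BasedFunctor.comp d.fn (FibCat.fpSnd y f)
  isoTop :=
    { hom := BasedCategory.whiskerRight d.isoTop.hom (FibCat.fpSnd y f)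
      inv := BasedCategory.whiskerRight d.isoTop.inv (FibCat.fpSnd y f)
      hom_inv_id := by rw [← whiskerRight_comp', Iso.hom_inv_id, whiskerRight_id']; rfl
      inv_hom_id := by rw [← whiskerRight_comp', Iso.inv_hom_id, whiskerRight_id']; rfl }
  isoBot :=
    { hom := BasedCategory.whiskerRight d.isoBot.hom y ≫
        BasedCategory.whiskerLeft d.fn (FibCat.fpIso y f).hom
      inv := BasedCategory.whiskerLeft d.fn (FibCat.fpIso y f).inv ≫
        BasedCategory.whiskerRight d.isoBot.inv y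
      hom_inv_id := nat_ext fun x => by
        change (y.map (d.isoBot.hom.toNatTrans.app x) ≫ (d.fn.obj x).obj.iso.hom) ≫
          ((d.fn.obj x).obj.iso.inv ≫ y.map (d.isoBot.inv.toNatTrans.app x)) = 𝟙 _
        rw [Category.assoc, Iso.hom_inv_id_assoc, ← Functor.map_comp]
        exact (congrArg y.map (app_congr d.isoBot.hom_inv_id x)).trans (y.map_id _)
      inv_hom_id := nat_ext fun x => by
        change ((d.fn.obj x).obj.iso.inv ≫ y.map (d.isoBot.inv.toNatTrans.app x)) ≫
          (y.map (d.isoBot.hom.toNatTrans.app x) ≫ (d.fn.obj x).obj.iso.hom) = 𝟙 _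
        rw [Category.assoc, ← Functor.map_comp_assoc]
        have h : d.isoBot.inv.toNatTrans.app x ≫ d.isoBot.hom.toNatTrans.app x = 𝟙 _ :=
          app_congr d.isoBot.inv_hom_id x
        erw [h, y.map_id, Category.id_comp]
        exact Iso.inv_hom_id _ }
  w := nat_ext fun x => by
    have h1 : (d.fn.obj (j.obj x)).obj.iso.hom ≫ f.map (d.isoTop.hom.toNatTrans.app x).hom.snd =
        y.map (d.isoTop.hom.toNatTrans.app x).hom.fst ≫ (sq.top.obj x).obj.iso.hom :=
      (d.isoTop.hom.toNatTrans.app x).hom.w.symm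
    have h2 : d.isoBot.hom.toNatTrans.app (j.obj x) ≫ (d.isoTop.hom.toNatTrans.app x).hom.fst =
        sq.iso.hom.toNatTrans.app x := app_congr d.w x
    change (y.map (d.isoBot.hom.toNatTrans.app (j.obj x)) ≫ (d.fn.obj (j.obj x)).obj.iso.hom) ≫
      f.map (d.isoTop.hom.toNatTrans.app x).hom.snd =
        y.map (sq.iso.hom.toNatTrans.app x) ≫ (sq.top.obj x).obj.iso.hom
    rw [Category.assoc]
    erw [h1, ← Functor.map_comp_assoc, h2]

theorem liftsUniquely_fpFst (hf : LiftsUniquely j f) : LiftsUniquely j (FibCat.fpFst y f) := by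
  intro sq
  refine ⟨?_, ?_⟩
  · obtain ⟨c⟩ := (hf (sqBase sq)).1
    let L : ℬ ⥤ᵇ FibCat.fp y f := FibCat.fpLift sq.bot c.fn c.isoBot
    let t : BasedFunctor.comp j L ≅ sq.top := BasedNatIso.mkNatIso
      (NatIso.ofComponents
        (fun x => ObjectProperty.isoMk _ (CategoricalPullback.mkIso
          (((BasedNatTrans.forgetful _ _).mapIso sq.iso).app x)
          (((BasedNatTrans.forgetful _ _).mapIso c.isoTop).app x)
          (app_congr c.w x).symm))
        (fun {a b} φ => by
          apply ObjectProperty.hom_ext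
          refine CategoricalPullback.hom_ext ?_ ?_
          · exact sq.iso.hom.toNatTrans.naturality φ
          · exact c.isoTop.hom.toNatTrans.naturality φ))
      (fun x => by
        have h : 𝒴'.p.IsHomLift (𝟙 (𝒜.p.obj x)) (sq.iso.hom.toNatTrans.app x) :=
          sq.iso.hom.isHomLift' x
        refine IsHomLift.of_fac' _ _ _ ?_ ?_ ?_
        · exact IsHomLift.domain_eq 𝒴'.p (𝟙 (𝒜.p.obj x)) (sq.iso.hom.toNatTrans.app x)
        · exact IsHomLift.codomain_eq 𝒴'.p (𝟙 (𝒜.p.obj x)) (sq.iso.hom.toNatTrans.app x)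
        · exact IsHomLift.fac' 𝒴'.p (𝟙 (𝒜.p.obj x)) (sq.iso.hom.toNatTrans.app x))
    refine ⟨⟨L, t, Iso.refl _, ?_⟩⟩
    refine nat_ext fun x => ?_
    change 𝟙 _ ≫ sq.iso.hom.toNatTrans.app x = sq.iso.hom.toNatTrans.app x
    exact Category.id_comp _
  · intro d d'
    obtain ⟨uψ⟩ := (hf (sqBase sq)).2 (liftBase d) (liftBase d')
    let ψ := uψ.default
    let σ : BasedFunctor.comp d.fn (FibCat.fpFst y f) ⟶ BasedFunctor.comp d'.fn (FibCat.fpFst y f) :=
      d.isoBot.inv ≫ d'.isoBot.hom
    have hw : ∀ x : ℬ.obj, y.map (σ.toNatTrans.app x) ≫ (d'.fn.obj x).obj.iso.hom =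
        (d.fn.obj x).obj.iso.hom ≫ f.map (ψ.hom.toNatTrans.app x) := by
      intro x
      have h := app_congr ψ.w_bot x
      change (y.map (d.isoBot.hom.toNatTrans.app x) ≫ (d.fn.obj x).obj.iso.hom) ≫
        f.map (ψ.hom.toNatTrans.app x) =
          y.map (d'.isoBot.hom.toNatTrans.app x) ≫ (d'.fn.obj x).obj.iso.hom at h
      change y.map (d.isoBot.inv.toNatTrans.app x ≫ d'.isoBot.hom.toNatTrans.app x) ≫ _ = _
      rw [Functor.map_comp, Category.assoc]
      erw [← h]
      rw [Category.assoc]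
      erw [← Functor.map_comp_assoc]
      have hi : d.isoBot.inv.toNatTrans.app x ≫ d.isoBot.hom.toNatTrans.app x = 𝟙 _ :=
        app_congr d.isoBot.inv_hom_id x
      erw [hi, y.map_id, Category.id_comp]
    let θ : d.fn ⟶ d'.fn :=
      { app := fun x => ObjectProperty.homMk
          { fst := σ.toNatTrans.app x
            snd := ψ.hom.toNatTrans.app x
            w := hw x }
        naturality := fun {a b} φ => by
          apply ObjectProperty.hom_ext
          refine CategoricalPullback.hom_ext ?_ ?_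
          · exact σ.toNatTrans.naturality φ
          · exact ψ.hom.toNatTrans.naturality φ
        isHomLift' := fun x => by
          have h : 𝒴'.p.IsHomLift (𝟙 (ℬ.p.obj x)) (σ.toNatTrans.app x) := σ.isHomLift' x
          refine IsHomLift.of_fac' _ _ _ ?_ ?_ ?_
          · exact IsHomLift.domain_eq 𝒴'.p (𝟙 (ℬ.p.obj x)) (σ.toNatTrans.app x)
          · exact IsHomLift.codomain_eq 𝒴'.p (𝟙 (ℬ.p.obj x)) (σ.toNatTrans.app x)
          · exact IsHomLift.fac' 𝒴'.p (𝟙 (ℬ.p.obj x)) (σ.toNatTrans.app x) }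
    refine ⟨⟨⟨⟨θ, ?_, ?_⟩⟩, ?_⟩⟩
    · refine nat_ext fun x => ?_
      apply ObjectProperty.hom_ext
      refine CategoricalPullback.hom_ext ?_ ?_
      · have h2 : d.isoBot.hom.toNatTrans.app (j.obj x) ≫ (d.isoTop.hom.toNatTrans.app x).hom.fst =
            sq.iso.hom.toNatTrans.app x := app_congr d.w x
        have h3 : d'.isoBot.hom.toNatTrans.app (j.obj x) ≫ (d'.isoTop.hom.toNatTrans.app x).hom.fst =
            sq.iso.hom.toNatTrans.app x := app_congr d'.w x
        have hi : d.isoBot.inv.toNatTrans.app (j.obj x) ≫ d.isoBot.hom.toNatTrans.app (j.obj x) = 𝟙 _ :=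
          app_congr d.isoBot.inv_hom_id (j.obj x)
        change (d.isoBot.inv.toNatTrans.app (j.obj x) ≫ d'.isoBot.hom.toNatTrans.app (j.obj x)) ≫
          (d'.isoTop.hom.toNatTrans.app x).hom.fst = (d.isoTop.hom.toNatTrans.app x).hom.fst
        rw [Category.assoc]
        erw [h3, ← h2]
        change d.isoBot.inv.toNatTrans.app (j.obj x) ≫ d.isoBot.hom.toNatTrans.app (j.obj x) ≫
          (d.isoTop.hom.toNatTrans.app x).hom.fst = _
        rw [← Category.assoc]
        erw [hi]
        exact Category.id_comp _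
      · exact app_congr ψ.w_top x
    · refine nat_ext fun x => ?_
      change d.isoBot.hom.toNatTrans.app x ≫
        (d.isoBot.inv.toNatTrans.app x ≫ d'.isoBot.hom.toNatTrans.app x) = _
      have hi : d.isoBot.hom.toNatTrans.app x ≫ d.isoBot.inv.toNatTrans.app x = 𝟙 _ :=
        app_congr d.isoBot.hom_inv_id x
      rw [← Category.assoc]
      erw [hi]
      exact Category.id_comp _
    · intro Θ
      apply Sq.Lift.hom_ext
      have hσ : ∀ x : ℬ.obj, (Θ.hom.toNatTrans.app x).hom.fst = σ.toNatTrans.app x := by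
        intro x
        have h := app_congr Θ.w_bot x
        change d.isoBot.hom.toNatTrans.app x ≫ (Θ.hom.toNatTrans.app x).hom.fst =
          d'.isoBot.hom.toNatTrans.app x at h
        change _ = d.isoBot.inv.toNatTrans.app x ≫ d'.isoBot.hom.toNatTrans.app x
        have hi : d.isoBot.inv.toNatTrans.app x ≫ d.isoBot.hom.toNatTrans.app x = 𝟙 _ :=
          app_congr d.isoBot.inv_hom_id x
        rw [← h, ← Category.assoc]
        erw [hi]
        exact (Category.id_comp _).symm
      let Ψ : liftBase d ⟶ liftBase d' :=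
        ⟨BasedCategory.whiskerRight Θ.hom (FibCat.fpSnd y f),
          nat_ext fun x => congrArg (fun a => a.hom.snd) (app_congr Θ.w_top x),
          nat_ext fun x => by
            have h : d.isoBot.hom.toNatTrans.app x ≫ (Θ.hom.toNatTrans.app x).hom.fst =
                d'.isoBot.hom.toNatTrans.app x := app_congr Θ.w_bot x
            change (y.map (d.isoBot.hom.toNatTrans.app x) ≫ (d.fn.obj x).obj.iso.hom) ≫
              f.map (Θ.hom.toNatTrans.app x).hom.snd =
                y.map (d'.isoBot.hom.toNatTrans.app x) ≫ (d'.fn.obj x).obj.iso.hom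
            rw [Category.assoc]
            erw [← (Θ.hom.toNatTrans.app x).hom.w, ← Functor.map_comp_assoc, h]⟩
      have hΨ := congrArg Sq.Lift.Hom.hom (uψ.uniq Ψ)
      refine nat_ext fun x => ?_
      apply ObjectProperty.hom_ext
      refine CategoricalPullback.hom_ext ?_ ?_
      · exact hσ x
      · exact app_congr hΨ x

end baseChange

end LiftSqLib
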